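import Cfsg.Agent.EqLemmas

/-!
# Subgroups of `PGL_n` over a finite field containing `PSL_n`

`mem_of_det_one`, `sq_mem_two` and `not_dvd_card_proj` (projective space has cardinality prime to
the characteristic).
-/

set_option autoImplicit false
open Matrix
open scoped LinearAlgebra.Projectivization MatrixGroups

namespace Cfsg.Agent.NilCoverPGL

variable {F : Type*} [Field F] {n : ℕ} {G : Subgroup PGL(n, F)}

theorem mem_of_det_one (hG : ∀ s : Matrix.SpecialLinearGroup (Fin n) F, s.toPGL ∈ G)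
    {M : GL (Fin n) F} (hM : (M : Matrix (Fin n) (Fin n) F).det = 1) : ProjGenLinGroup.mk M ∈ G := by
  have h := hG ⟨(M : Matrix (Fin n) (Fin n) F), hM⟩
  have h2 : Matrix.SpecialLinearGroup.toGL ⟨(M : Matrix (Fin n) (Fin n) F), hM⟩ = M := Units.ext rfl
  simpa [Matrix.SpecialLinearGroup.toPGL, Function.comp_def, h2] using h

theorem conj_mem_of_det_one (hG : ∀ s : Matrix.SpecialLinearGroup (Fin n) F, s.toPGL ∈ G)
    (k : PGL(n, F)) {M : GL (Fin n) F} (hM : (M : Matrix (Fin n) (Fin n) F).det = 1) :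
    k * ProjGenLinGroup.mk M * k⁻¹ ∈ G := by
  induction k using ProjGenLinGroup.induction_on with | mk K => ?_
  rw [← map_inv, ← map_mul, ← map_mul]
  apply mem_of_det_one hG
  simp [Units.val_mul, hM, mul_inv_cancel₀ K.det_ne_zero]

theorem sq_mem_two {G : Subgroup PGL(2, F)}
    (hG : ∀ s : Matrix.SpecialLinearGroup (Fin 2) F, s.toPGL ∈ G) (g : PGL(2, F)) : g ^ 2 ∈ G := by
  induction g using ProjGenLinGroup.induction_on with | mk K => ?_
  have h : ProjGenLinGroup.mk (K ^ 2 * GeneralLinearGroup.scalar (Fin 2) (GeneralLinearGroup.det K)⁻¹) ∈ G := by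
    apply mem_of_det_one hG
    have hd : ((K : GL (Fin 2) F) : Matrix (Fin 2) (Fin 2) F).det ≠ 0 := K.det_ne_zero
    simp [Units.val_mul, Matrix.det_mul, sq]
    field_simp
  simpa using h

variable (n) (F)

theorem not_dvd_card_proj [Finite F] (p : ℕ) [hp : Fact p.Prime] [CharP F p] (hn : n ≠ 0) :
    ¬ p ∣ Nat.card (ℙ F (Fin n → F)) := by
  rw [Projectivization.card_of_finrank F (Fin n → F) (Module.finrank_fin_fun F)]
  obtain ⟨m, rfl⟩ := Nat.exists_eq_succ_of_ne_zero hn
  have : Fintype F := Fintype.ofFinite F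
  obtain ⟨f, hpr, hf⟩ := FiniteField.card F p
  have hdvd : p ∣ Nat.card F := by
    rw [Nat.card_eq_fintype_card, hf]; exact dvd_pow_self p f.ne_zero
  intro h
  rw [Finset.sum_range_succ'] at h
  have h2 : p ∣ ∑ k ∈ Finset.range m, Nat.card F ^ (k + 1) :=
    Finset.dvd_sum fun k _ => hdvd.trans (dvd_pow_self _ (Nat.succ_ne_zero k))
  rw [Nat.dvd_add_right h2, pow_zero] at h
  exact hp.out.ne_one (Nat.dvd_one.1 h)

end Cfsg.Agent.NilCoverPGL
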