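import Cfsg.Agent.EqLemmas
import Cfsg.Agent.Lib.NilGroup.Basic

/-!
# Nilpotent subgroups acting with few fixed points

* `exists_normal_pgroup`: in a finite nilpotent group the `p`-elements lie in one normal `p`-subgroup.
* `le_stabilizer_of_unique_fix`: a nilpotent subgroup containing a `p`-element with a unique fixed
  point on a set of cardinality prime to `p` fixes that point.
* `exists_pow_mul_eq_one`: the product of two `p`-elements of a nilpotent subgroup is a `p`-element.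
* `exists_common_commute`: two elements of order `r` of a nilpotent subgroup commute with a common
  element of order `r`.
-/

set_option autoImplicit false
open MulAction

namespace Cfsg.Agent.NilCoverPGL

theorem exists_normal_pgroup {A : Type*} [Group A] [Finite A] (hA : Group.IsNilpotent A) (p : ℕ)
    [Fact p.Prime] :
    ∃ P : Subgroup A, P.Normal ∧ IsPGroup p P ∧ ∀ x : A, (∃ k : ℕ, x ^ p ^ k = 1) → x ∈ P := by
  have hP : ∀ P : Sylow p A, (P : Subgroup A).Normal :=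
    fun P => ((Group.isNilpotent_of_finite_tfae (G := A)).out 0 3 rfl rfl).mp hA p inferInstance P
  obtain ⟨P⟩ : Nonempty (Sylow p A) := inferInstance
  refine ⟨P, hP P, P.isPGroup', fun x ⟨k, hk⟩ => ?_⟩
  have hx : IsPGroup p (Subgroup.zpowers x) := by
    rintro ⟨y, hy⟩
    obtain ⟨i, rfl⟩ := Subgroup.mem_zpowers_iff.1 hy
    refine ⟨k, Subtype.ext ?_⟩
    show (x ^ i) ^ p ^ k = 1
    rw [← zpow_natCast, ← zpow_mul, mul_comm, zpow_mul, zpow_natCast, hk, one_zpow]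
  obtain ⟨Q, hQ⟩ := hx.exists_le_sylow
  haveI := Sylow.unique_of_normal P (hP P)
  rw [Subsingleton.elim P Q]
  exact hQ (Subgroup.mem_zpowers x)

variable {H : Type*} [Group H] [Finite H]

theorem le_stabilizer_of_unique_fix {X : Type*} [MulAction H X] (A : Subgroup H)
    (hA : Group.IsNilpotent A) (p : ℕ) [Fact p.Prime] {x : H} (hxA : x ∈ A)
    (hxp : ∃ k : ℕ, x ^ p ^ k = 1) {L : X} (hfix : ∀ P : X, x • P = P → P = L)
    (hcard : ¬ p ∣ Nat.card X) : A ≤ stabilizer H L := by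
  obtain ⟨P, hPn, hPp, hPx⟩ := exists_normal_pgroup hA p
  obtain ⟨k, hk⟩ := hxp
  have hxP : (⟨x, hxA⟩ : A) ∈ P := hPx _ ⟨k, Subtype.ext hk⟩
  obtain ⟨Z, hZ⟩ := hPp.nonempty_fixed_point_of_prime_not_dvd_card X hcard
  have hZL : Z = L := hfix Z (hZ ⟨_, hxP⟩)
  intro a ha
  apply hfix
  have hmem := hPn.conj_mem _ hxP (⟨a, ha⟩ : A)⁻¹
  have h : (a⁻¹ * x * a⁻¹⁻¹) • Z = Z := hZ ⟨_, hmem⟩
  rw [hZL, inv_inv, mul_smul, mul_smul, inv_smul_eq_iff] at h
  exact h

theorem exists_pow_mul_eq_one (A : Subgroup H) (hA : Group.IsNilpotent A) (p : ℕ) [Fact p.Prime]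
    {x y : H} (hxA : x ∈ A) (hyA : y ∈ A) (hx : ∃ k : ℕ, x ^ p ^ k = 1)
    (hy : ∃ k : ℕ, y ^ p ^ k = 1) : ∃ k : ℕ, (x * y) ^ p ^ k = 1 := by
  obtain ⟨P, -, hPp, hPx⟩ := exists_normal_pgroup hA p
  obtain ⟨i, hi⟩ := hx
  obtain ⟨j, hj⟩ := hy
  have hxy := P.mul_mem (hPx ⟨x, hxA⟩ ⟨i, Subtype.ext hi⟩) (hPx ⟨y, hyA⟩ ⟨j, Subtype.ext hj⟩)
  obtain ⟨k, hk⟩ := hPp ⟨_, hxy⟩
  exact ⟨k, congrArg (fun z : P => ((z : A) : H)) hk⟩

theorem exists_common_commute (A : Subgroup H) (hA : Group.IsNilpotent A) (r : ℕ) [hr : Fact r.Prime]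
    {x y : H} (hxA : x ∈ A) (hyA : y ∈ A) (hx : orderOf x = r) (hy : orderOf y = r) :
    ∃ z : H, orderOf z = r ∧ Commute z x ∧ Commute z y := by
  obtain ⟨P, -, hPp, hPx⟩ := exists_normal_pgroup hA r
  have hxP : (⟨x, hxA⟩ : A) ∈ P := hPx _ ⟨1, Subtype.ext (by rw [pow_one, ← hx]; exact pow_orderOf_eq_one x)⟩
  have hyP : (⟨y, hyA⟩ : A) ∈ P := hPx _ ⟨1, Subtype.ext (by rw [pow_one, ← hy]; exact pow_orderOf_eq_one y)⟩
  haveI : Nontrivial P := by
    refine ⟨⟨⟨⟨x, hxA⟩, hxP⟩, 1, fun h => ?_⟩⟩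
    have hx1 : x = 1 := congrArg (fun z : P => ((z : A) : H)) h
    rw [hx1, orderOf_one] at hx
    exact hr.out.ne_one hx.symm
  haveI := hPp.center_nontrivial
  have hzp : IsPGroup r (Subgroup.center P) := hPp.to_subgroup _
  have hdvd : r ∣ Nat.card (Subgroup.center P) := by
    obtain ⟨e, he, hcard⟩ := hzp.nontrivial_iff_card.1 inferInstance
    rw [hcard]; exact dvd_pow_self r he.ne'
  obtain ⟨z, hz⟩ := exists_prime_orderOf_dvd_card' r hdvd
  refine ⟨((z : P) : A), by rw [Subgroup.orderOf_coe, Subgroup.orderOf_coe, Subgroup.orderOf_coe, hz],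
    ?_, ?_⟩
  · exact (congrArg (fun w : P => ((w : A) : H)) (Subgroup.mem_center_iff.1 z.2 ⟨_, hxP⟩)).symm
  · exact (congrArg (fun w : P => ((w : A) : H)) (Subgroup.mem_center_iff.1 z.2 ⟨_, hyP⟩)).symm

/-- Elements of coprime orders in a nilpotent subgroup commute. -/
theorem commute_of_coprime_mem (A : Subgroup H) (hA : Group.IsNilpotent A) {x y : H} (hxA : x ∈ A)
    (hyA : y ∈ A) (hc : (orderOf x).Coprime (orderOf y)) : Commute x y := by
  have h : Commute (⟨x, hxA⟩ : A) ⟨y, hyA⟩ :=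
    NilGroup.commute_of_coprime hA (by rwa [← Subgroup.orderOf_coe, ← Subgroup.orderOf_coe])
  exact h.map A.subtype

end Cfsg.Agent.NilCoverPGL
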