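import Cfsg.Agent.EqLemmas

/-!
# Two regular unipotent matrices fixing a common line

For `n = m + 3`: `jm` is the upper Jordan block and `jm'` its conjugate by the transposition of the
coordinates 1 and 2.  Both fix only the line of `e 0`, and their product is not unipotent.
-/

set_option autoImplicit false
open Matrix
open scoped LinearAlgebra.Projectivization MatrixGroups

namespace Cfsg.Agent.NilCoverPGL

variable (F : Type*) [Field F] (m : ℕ)

/-- The nilpotent upper shift. -/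
def nm : Matrix (Fin (m + 3)) (Fin (m + 3)) F :=
  Matrix.of fun i j => if (j : ℕ) = i + 1 then 1 else 0

/-- The upper Jordan block. -/
def jm : Matrix (Fin (m + 3)) (Fin (m + 3)) F := 1 + nm F m

/-- The transposition of the coordinates 1 and 2. -/
def sw : Equiv.Perm (Fin (m + 3)) := Equiv.swap ⟨1, by omega⟩ ⟨2, by omega⟩

/-- The Jordan block in the swapped basis. -/
def jm' : Matrix (Fin (m + 3)) (Fin (m + 3)) F := (jm F m).submatrix (sw m) (sw m)

variable {F m}

theorem jm_mulVec (v : Fin (m + 3) → F) (i : Fin (m + 3)) :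
    (jm F m *ᵥ v) i = v i + if h : (i : ℕ) + 1 < m + 3 then v ⟨i + 1, h⟩ else 0 := by
  rw [jm, Matrix.add_mulVec, Matrix.one_mulVec, Pi.add_apply]
  congr 1
  simp only [nm, mulVec, dotProduct, Matrix.of_apply, ite_mul, one_mul, zero_mul]
  by_cases h : (i : ℕ) + 1 < m + 3
  · rw [dif_pos h, Finset.sum_eq_single ⟨(i : ℕ) + 1, h⟩]
    · simp
    · intro b _ hb; rw [if_neg fun hb' => hb (Fin.ext hb')]
    · simp
  · rw [dif_neg h]
    refine Finset.sum_eq_zero fun b _ => ?_
    rw [if_neg]; have := b.isLt; omega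

theorem jm'_mulVec (v : Fin (m + 3) → F) (i : Fin (m + 3)) :
    (jm' F m *ᵥ v) i =
      v i + if h : ((sw m i : Fin (m + 3)) : ℕ) + 1 < m + 3 then v (sw m ⟨(sw m i : ℕ) + 1, h⟩) else 0 := by
  rw [jm', Matrix.submatrix_mulVec_equiv, Function.comp_apply, jm_mulVec]
  simp only [Function.comp_apply, sw, Equiv.symm_swap]
  simp

theorem nm_pow_apply (k : ℕ) (i j : Fin (m + 3)) (h : (j : ℕ) ≠ i + k) : ((nm F m) ^ k) i j = 0 := by
  induction k generalizing i j with
  | zero => rw [pow_zero, Matrix.one_apply_ne]; intro he; exact h (by simp [he])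
  | succ k ih =>
    rw [pow_succ, Matrix.mul_apply]
    refine Finset.sum_eq_zero fun l _ => ?_
    by_cases hl : (l : ℕ) = i + k
    · rw [show nm F m l j = 0 from if_neg (by omega), mul_zero]
    · rw [ih i l hl, zero_mul]

theorem jm_pow_char (p : ℕ) [Fact p.Prime] [CharP F p] : (jm F m) ^ p ^ (m + 3) = 1 := by
  rw [jm, add_pow_char_pow_of_commute (p := p) (h := Commute.one_left _), one_pow, add_eq_left]
  ext i j
  refine nm_pow_apply _ i j ?_
  have := j.isLt
  have := (Nat.lt_pow_self (n := m + 3) (Fact.out : p.Prime).one_lt)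
  omega

theorem jm'_pow_char (p : ℕ) [Fact p.Prime] [CharP F p] : (jm' F m) ^ p ^ (m + 3) = 1 := by
  have h : jm' F m = Matrix.reindexAlgEquiv F F (sw m).symm (jm F m) := by
    simp [jm', Matrix.reindexAlgEquiv, Matrix.reindex_apply]
  rw [h, ← map_pow, jm_pow_char p, map_one]

theorem det_jm : (jm F m).det = 1 := by
  rw [Matrix.det_of_isUpperTriangular]
  · refine Finset.prod_eq_one fun i _ => ?_
    simp [jm, nm]
  · intro i j hij
    have hij' : (j : ℕ) < i := hij
    have hne : i ≠ j := ne_of_gt hij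
    simp only [jm, nm, Matrix.add_apply, Matrix.of_apply, Matrix.one_apply, if_neg hne]
    rw [if_neg (by omega), add_zero]

theorem det_jm' : (jm' F m).det = 1 := by
  rw [jm', Matrix.det_submatrix_equiv_self, det_jm]

theorem jm_fixed {v : Fin (m + 3) → F} {c : F} (h : jm F m *ᵥ v = c • v) (i : Fin (m + 3))
    (hi : i ≠ 0) : v i = 0 := by
  classical
  by_contra hne
  obtain ⟨k, hk, hmax⟩ :=
    ((Finset.univ.filter fun j : Fin (m + 3) => j ≠ 0 ∧ v j ≠ 0)).exists_max_image id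
      ⟨i, by simp [hi, hne]⟩
  simp only [Finset.mem_filter, Finset.mem_univ, true_and, id] at hk hmax
  have hk0 : 0 < (k : ℕ) := Nat.pos_of_ne_zero fun h0 => hk.1 (Fin.ext h0)
  have hz : ∀ h' : (k : ℕ) + 1 < m + 3, v ⟨(k : ℕ) + 1, h'⟩ = 0 := by
    intro h'
    by_contra hne'
    have h2 : (k : ℕ) + 1 ≤ (k : ℕ) :=
      hmax ⟨(k : ℕ) + 1, h'⟩ ⟨fun h0 => Nat.succ_ne_zero _ (congrArg Fin.val h0), hne'⟩
    omega
  have e1 := congrFun h k
  rw [jm_mulVec, Pi.smul_apply, smul_eq_mul] at e1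
  have e1' : v k = c * v k := by
    split_ifs at e1 with h'
    · rwa [hz h', add_zero] at e1
    · rwa [add_zero] at e1
  have hc : c = 1 := mul_right_cancel₀ hk.2 (by rw [← e1', one_mul])
  have hlt : (k : ℕ) - 1 + 1 < m + 3 := by have := k.isLt; omega
  have e2 := congrFun h ⟨(k : ℕ) - 1, by omega⟩
  rw [jm_mulVec, dif_pos hlt, Pi.smul_apply, smul_eq_mul, hc, one_mul, add_eq_left] at e2
  refine hk.2 (Eq.trans (congrArg v (Fin.ext ?_)) e2)
  show (k : ℕ) = (k : ℕ) - 1 + 1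
  omega

theorem jm'_fixed {v : Fin (m + 3) → F} {c : F} (h : jm' F m *ᵥ v = c • v) (i : Fin (m + 3))
    (hi : i ≠ 0) : v i = 0 := by
  have h0 : sw m 0 = 0 := by
    rw [sw, Equiv.swap_apply_of_ne_of_ne] <;> simp [Fin.ext_iff]
  rw [jm', Matrix.submatrix_mulVec_equiv] at h
  have h' : jm F m *ᵥ (v ∘ (sw m).symm) = c • (v ∘ (sw m).symm) := by
    funext j
    have := congrFun h ((sw m).symm j)
    simpa using this
  have := jm_fixed h' (sw m i) (fun he => hi ((sw m).injective (he.trans h0.symm)))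
  simpa using this

/-- `v` lives on the first three coordinates and is nonzero in coordinate 1 or 2. -/
def Bad (v : Fin (m + 3) → F) : Prop :=
  (∀ i : Fin (m + 3), 3 ≤ (i : ℕ) → v i = 0) ∧ (v ⟨1, by omega⟩ ≠ 0 ∨ v ⟨2, by omega⟩ ≠ 0)

theorem bad_step {v : Fin (m + 3) → F} (h : Bad v) : Bad ((jm F m * jm' F m - 1) *ᵥ v) := by
  obtain ⟨hv, h12⟩ := h
  have hbig : ∀ i : Fin (m + 3), 3 ≤ (i : ℕ) → sw m i = i := fun i hi => by
    rw [sw, Equiv.swap_apply_of_ne_of_ne] <;> (rw [ne_eq, Fin.ext_iff]; simp only; omega)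
  have hu3 : ∀ i : Fin (m + 3), 3 ≤ (i : ℕ) → (jm' F m *ᵥ v) i = 0 := by
    intro i hi
    rw [jm'_mulVec, hv i hi, zero_add]
    split_ifs with h'
    · have hb : 3 ≤ (sw m i : ℕ) + 1 := by rw [hbig i hi]; omega
      rw [hbig _ hb]; exact hv _ hb
    · rfl
  have hu2 : (jm' F m *ᵥ v) ⟨2, by omega⟩ = v ⟨2, by omega⟩ + v ⟨1, by omega⟩ := by
    rw [jm'_mulVec]
    have h1 : sw m ⟨2, by omega⟩ = (⟨1, by omega⟩ : Fin (m + 3)) := Equiv.swap_apply_right _ _
    have h2 : sw m ⟨2, by omega⟩ = (⟨1, by omega⟩ : Fin (m + 3)) := h1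
    simp only [h1]
    rw [dif_pos (by omega)]
  have hu1 : (jm' F m *ᵥ v) ⟨1, by omega⟩ = v ⟨1, by omega⟩ := by
    rw [jm'_mulVec]
    have h1 : sw m ⟨1, by omega⟩ = (⟨2, by omega⟩ : Fin (m + 3)) := Equiv.swap_apply_left _ _
    simp only [h1]
    split_ifs with h'
    · rw [hbig ⟨_, h'⟩ (le_refl 3), hv ⟨_, h'⟩ (le_refl 3), add_zero]
    · rw [add_zero]
  have hw : ∀ i, ((jm F m * jm' F m - 1) *ᵥ v) i = (jm F m *ᵥ (jm' F m *ᵥ v)) i - v i := by
    intro i
    rw [Matrix.sub_mulVec, ← Matrix.mulVec_mulVec, Matrix.one_mulVec, Pi.sub_apply]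
  refine ⟨fun i hi => ?_, ?_⟩
  · rw [hw, jm_mulVec, hu3 i hi, hv i hi]
    split_ifs with h'
    · rw [hu3 _ (by simp only; omega)]; ring
    · ring
  · have hw1 : ((jm F m * jm' F m - 1) *ᵥ v) ⟨1, by omega⟩ = v ⟨2, by omega⟩ + v ⟨1, by omega⟩ := by
      rw [hw, jm_mulVec, dif_pos (by simp only; omega), hu1]
      simp only [Nat.reduceAdd]
      rw [hu2]; ring
    have hw2 : ((jm F m * jm' F m - 1) *ᵥ v) ⟨2, by omega⟩ = v ⟨1, by omega⟩ := by
      rw [hw, jm_mulVec, hu2]
      split_ifs with h'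
      · rw [hu3 _ (by simp only; omega)]; ring
      · ring
    rw [hw1, hw2]
    by_cases ha : v ⟨1, by omega⟩ = 0
    · left
      rcases h12 with h12 | h12
      · exact absurd ha h12
      · rwa [ha, add_zero]
    · exact Or.inr ha

theorem mul_pow_char_ne (p : ℕ) [Fact p.Prime] [CharP F p] (k : ℕ) :
    (jm F m * jm' F m) ^ p ^ k ≠ 1 := by
  intro h
  have h0 : (jm F m * jm' F m - 1) ^ p ^ k = 0 := by
    rw [sub_pow_char_pow_of_commute (p := p) (h := Commute.one_right _), h, one_pow, sub_self]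
  have key : ∀ e : ℕ, Bad (((jm F m * jm' F m - 1) ^ e) *ᵥ Pi.single (⟨1, by omega⟩ : Fin (m + 3)) (1 : F)) := by
    intro e
    induction e with
    | zero =>
      rw [pow_zero, Matrix.one_mulVec]
      refine ⟨fun i hi => Pi.single_eq_of_ne ?_ _, Or.inl ?_⟩
      · rw [ne_eq, Fin.ext_iff]; simp only; omega
      · simp
    | succ e ih =>
      rw [pow_succ', ← Matrix.mulVec_mulVec]
      exact bad_step ih
  have := (key (p ^ k)).2
  simp [h0] at this

end Cfsg.Agent.NilCoverPGL
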