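import Cfsg.Agent.EqLemmas
import Cfsg.Agent.Lib.Cover.Nilpotent
import Cfsg.Agent.Lib.NilCoverPGL.Fix
import Cfsg.Agent.Lib.NilCoverPGL.Common
import Cfsg.Agent.Lib.NilCoverPGL.Jordan

/-!
# No nilpotent minimal cover for groups between `PSL_n` and `PGL_n`, `n ≥ 3`
-/

set_option autoImplicit false
open Matrix MulAction
open scoped LinearAlgebra.Projectivization MatrixGroups

namespace Cfsg.Agent.NilCoverPGL

variable {F : Type*} [Field F] {n : ℕ}

instance finite_PGL [Finite F] : Finite PGL(n, F) :=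
  Finite.of_surjective ProjGenLinGroup.mk ProjGenLinGroup.mk_surjective

theorem fixed_line {m : ℕ} {U : GL (Fin (m + 3)) F} {M : Matrix (Fin (m + 3)) (Fin (m + 3)) F}
    (hU : (U : Matrix (Fin (m + 3)) (Fin (m + 3)) F) = M)
    (hM : ∀ (v : Fin (m + 3) → F) (c : F), M *ᵥ v = c • v → ∀ i, i ≠ 0 → v i = 0)
    (P : ℙ F (Fin (m + 3) → F))
    (hP : (ProjGenLinGroup.mk U : (Matrix.ProjGenLinGroup (Fin (m + 3)) F)) • P = P) :
    P = Projectivization.mk F (Pi.single 0 1) (by simp) := by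
  induction P using Projectivization.ind with | _ v hv => ?_
  rw [Projectivization.PGL.mk_smul_mk, Projectivization.mk_eq_mk_iff'] at hP
  obtain ⟨c, hc⟩ := hP
  have hz := hM v c (by rw [hc, ← hU]; rfl)
  rw [Projectivization.mk_eq_mk_iff']
  refine ⟨v 0, funext fun i => ?_⟩
  by_cases hi : i = 0
  · subst hi; simp
  · simp [Pi.single_eq_of_ne hi, hz i hi]

theorem false_of_cover_ge_three [Finite F] (m : ℕ) (G : Subgroup (Matrix.ProjGenLinGroup (Fin (m + 3)) F))
    (hG : ∀ s : Matrix.SpecialLinearGroup (Fin (m + 3)) F, s.toPGL ∈ G)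
    (𝓐 : Finset (Subgroup G)) (hcov : (∀ A ∈ 𝓐, A ≠ ⊤) ∧ (∀ g : G, ∃ A ∈ 𝓐, g ∈ A))
    (hmin : ∀ 𝓑 : Finset (Subgroup G), (∀ A ∈ 𝓑, A ≠ ⊤) ∧ (∀ g : G, ∃ A ∈ 𝓑, g ∈ A) → 𝓐.card ≤ 𝓑.card)
    (hnil : ∀ A ∈ 𝓐, Group.IsNilpotent A) : False := by
  obtain ⟨p, hpc⟩ := CharP.exists F
  haveI hp : Fact p.Prime := ⟨CharP.char_is_prime F p⟩
  let x0 : GL (Fin (m + 3)) F := GeneralLinearGroup.mkOfDetNeZero (jm F m) (by simp [det_jm])
  let y0 : GL (Fin (m + 3)) F := GeneralLinearGroup.mkOfDetNeZero (jm' F m) (by simp [det_jm'])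
  have hx0 : (x0 : Matrix (Fin (m + 3)) (Fin (m + 3)) F) = jm F m := rfl
  have hy0 : (y0 : Matrix (Fin (m + 3)) (Fin (m + 3)) F) = jm' F m := rfl
  let x : G := ⟨ProjGenLinGroup.mk x0, mem_of_det_one hG (by rw [hx0, det_jm])⟩
  let y : G := ⟨ProjGenLinGroup.mk y0, mem_of_det_one hG (by rw [hy0, det_jm'])⟩
  set L : ℙ F (Fin (m + 3) → F) := Projectivization.mk F (Pi.single 0 1) (by simp) with hL
  have hfx : ∀ P : ℙ F (Fin (m + 3) → F), x • P = P → P = L := fun P hP =>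
    fixed_line hx0 (fun v c h i hi => jm_fixed h i hi) P hP
  have hfy : ∀ P : ℙ F (Fin (m + 3) → F), y • P = P → P = L := fun P hP =>
    fixed_line hy0 (fun v c h i hi => jm'_fixed h i hi) P hP
  have hxp : ∃ k : ℕ, x ^ p ^ k = 1 := by
    refine ⟨m + 3, Subtype.ext ?_⟩
    show (ProjGenLinGroup.mk x0) ^ p ^ (m + 3) = 1
    rw [← map_pow, show x0 ^ p ^ (m + 3) = 1 from Units.ext (by
      rw [Units.val_pow_eq_pow_val, hx0, jm_pow_char p, Units.val_one]), map_one]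
  have hyp : ∃ k : ℕ, y ^ p ^ k = 1 := by
    refine ⟨m + 3, Subtype.ext ?_⟩
    show (ProjGenLinGroup.mk y0) ^ p ^ (m + 3) = 1
    rw [← map_pow, show y0 ^ p ^ (m + 3) = 1 from Units.ext (by
      rw [Units.val_pow_eq_pow_val, hy0, jm'_pow_char p, Units.val_one]), map_one]
  obtain ⟨A, hA, hxA⟩ := hcov.2 x
  obtain ⟨B, hB, hyB⟩ := hcov.2 y
  have hcard := not_dvd_card_proj F (m + 3) p (by omega)
  have hAH := le_stabilizer_of_unique_fix A (hnil A hA) p hxA hxp hfx hcard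
  have hBH := le_stabilizer_of_unique_fix B (hnil B hB) p hyB hyp hfy hcard
  -- the stabiliser of the line is proper
  have hproper : stabilizer G L ≠ ⊤ := by
    intro htop
    let t0 : GL (Fin (m + 3)) F :=
      GeneralLinearGroup.mkOfDetNeZero (Matrix.transvection ⟨1, by omega⟩ 0 (1 : F)) (by simp [Fin.ext_iff])
    have ht : (⟨ProjGenLinGroup.mk t0, mem_of_det_one hG (by simp [t0, Fin.ext_iff])⟩ : G) ∈ stabilizer G L := by
      rw [htop]; exact Subgroup.mem_top _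
    have ht' : (ProjGenLinGroup.mk t0 : (Matrix.ProjGenLinGroup (Fin (m + 3)) F)) • L = L := ht
    rw [hL, Projectivization.PGL.mk_smul_mk, Projectivization.mk_eq_mk_iff'] at ht'
    obtain ⟨c, hc⟩ := ht'
    have := congrFun hc ⟨1, by omega⟩
    simp [t0, Matrix.transvection, Matrix.add_mulVec, Units.smul_def, Fin.ext_iff] at this
  obtain rfl := NilCover.eq_of_le_proper 𝓐 hcov hmin hproper hA hB hAH hBH
  obtain ⟨k, hk⟩ := exists_pow_mul_eq_one A (hnil A hA) p hxA hyB hxp hyp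
  have hk' : (ProjGenLinGroup.mk x0 * ProjGenLinGroup.mk y0 : (Matrix.ProjGenLinGroup (Fin (m + 3)) F)) ^ p ^ k = 1 :=
    congrArg Subtype.val hk
  rw [← map_mul, ← map_pow, ← map_one ProjGenLinGroup.mk, ProjGenLinGroup.mk_eq_mk_iff] at hk'
  obtain ⟨u, hu⟩ := hk'
  have hM : ((jm F m * jm' F m) ^ p ^ k) * Matrix.scalar (Fin (m + 3)) (u : F) = 1 := by
    have := congrArg (fun g : GL (Fin (m + 3)) F => (g : Matrix (Fin (m + 3)) (Fin (m + 3)) F)) hu
    simpa [hx0, hy0] using this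
  -- both matrices fix the first basis vector, hence `u = 1`
  have he : ∀ e : ℕ, (jm F m * jm' F m) ^ e *ᵥ (Pi.single 0 1 : Fin (m + 3) → F) = Pi.single 0 1 := by
    have h1 : jm F m *ᵥ (Pi.single 0 1 : Fin (m + 3) → F) = Pi.single 0 1 := by
      funext i
      rw [jm_mulVec]
      split_ifs with h'
      · have hne : (⟨(i : ℕ) + 1, h'⟩ : Fin (m + 3)) ≠ 0 := fun h =>
          Nat.succ_ne_zero _ (congrArg Fin.val h)
        rw [Pi.single_eq_of_ne hne, add_zero]
      · rw [add_zero]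
    have h2 : jm' F m *ᵥ (Pi.single 0 1 : Fin (m + 3) → F) = Pi.single 0 1 := by
      have hs : ∀ j : Fin (m + 3), sw m j = 0 ↔ j = 0 := fun j => by
        have h0 : sw m 0 = 0 := by
          rw [sw, Equiv.swap_apply_of_ne_of_ne] <;> simp [Fin.ext_iff]
        exact ⟨fun h => (sw m).injective (h.trans h0.symm), fun h => h ▸ h0⟩
      funext i
      rw [jm'_mulVec]
      split_ifs with h'
      · have hne : sw m ⟨((sw m i : Fin (m + 3)) : ℕ) + 1, h'⟩ ≠ 0 := fun h =>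
          Nat.succ_ne_zero _ (congrArg Fin.val ((hs _).1 h))
        rw [Pi.single_eq_of_ne hne, add_zero]
      · rw [add_zero]
    intro e
    induction e with
    | zero => rw [pow_zero, Matrix.one_mulVec]
    | succ e ih => rw [pow_succ, ← Matrix.mulVec_mulVec, ← Matrix.mulVec_mulVec, h2, h1, ih]
  have hu1 : (u : F) = 1 := by
    have h1 : (Matrix.scalar (Fin (m + 3)) (u : F)) *ᵥ (Pi.single 0 1 : Fin (m + 3) → F) =
        (u : F) • Pi.single 0 1 := by
      funext i; simp [Matrix.mulVec_diagonal]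
    have h2 := congrArg (· *ᵥ (Pi.single 0 1 : Fin (m + 3) → F)) hM
    simp only [← Matrix.mulVec_mulVec, Matrix.one_mulVec, h1, Matrix.mulVec_smul, he] at h2
    simpa using congrFun h2 0
  rw [hu1, map_one, mul_one] at hM
  exact mul_pow_char_ne p k hM

end Cfsg.Agent.NilCoverPGL
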