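import Cfsg.Agent.EqLemmas
import Cfsg.Agent.Lib.PSL2.Moebius
import Cfsg.Agent.Lib.NilCoverPGL.Fix
import Cfsg.Agent.Lib.NilCoverPGL.Common

/-!
# Elements of subgroups of `PGL_2` containing `PSL_2`

`exists_unipotent` (an element with one given fixed point), `aff_sq_mem`, `stabilizer_ne_top`,
and the centralizer facts for elements without fixed points.
-/

set_option autoImplicit false
open Matrix MulAction
open scoped LinearAlgebra.Projectivization MatrixGroups

namespace Cfsg.Agent.NilCoverPGL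

open Cfsg.Agent.PSL2

variable {F : Type*} [Field F] {G : Subgroup (PGL2 F)}

theorem card_pt [Finite F] : Nat.card (Pt F) = Nat.card F + 1 :=
  Projectivization.card_of_finrank_two F (Fin 2 → F) (Module.finrank_fin_fun F)

theorem finite_pgl2 [Finite F] : Finite (PGL2 F) :=
  Finite.of_surjective ProjGenLinGroup.mk ProjGenLinGroup.mk_surjective

theorem exists_unipotent (p : ℕ) [Fact p.Prime] [CharP F p]
    (hG : ∀ s : Matrix.SpecialLinearGroup (Fin 2) F, s.toPGL ∈ G) (P : Pt F) :
    ∃ x : G, x ^ p = 1 ∧ x ≠ 1 ∧ x • P = P ∧ ∀ R : Pt F, x • R = R → R = P := by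
  obtain ⟨k, hk⟩ := exists_map_pinf P
  have hmem : k⁻¹ * aff (1 : Fˣ) (1 : F) * k⁻¹⁻¹ ∈ G := by
    rw [aff, mob]
    apply conj_mem_of_det_one hG
    simp [Matrix.det_fin_two]
  have hfix : ∀ R : Pt F, (k⁻¹ * aff (1 : Fˣ) (1 : F) * k⁻¹⁻¹) • R = R ↔ R = P := by
    intro R
    rw [inv_inv, mul_smul, mul_smul, inv_smul_eq_iff]
    constructor
    · intro h
      rcases pt_cases (k • R) with hR | ⟨x, hR⟩
      · exact MulAction.injective k (hR.trans hk.symm)
      · exfalso
        have h' : aff (1 : Fˣ) (1 : F) • (k • R) = k • R := h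
        rw [hR, aff_smul_pt] at h'
        simp at h'
    · rintro rfl
      rw [hk, aff_smul_pinf]
  refine ⟨⟨_, hmem⟩, Subtype.ext ?_, fun h => ?_, (hfix P).2 rfl, fun R hR => (hfix R).1 hR⟩
  · show (k⁻¹ * aff (1 : Fˣ) (1 : F) * k⁻¹⁻¹) ^ p = 1
    rw [conj_pow, aff_one_pow, CharP.cast_eq_zero, zero_mul, aff_one_zero]
    simp
  · have h' : k⁻¹ * aff (1 : Fˣ) (1 : F) * k⁻¹⁻¹ = 1 := congrArg Subtype.val h
    rw [mul_inv_eq_one, mul_eq_left, aff_eq_one_iff] at h'
    exact one_ne_zero h'.2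

theorem aff_sq_mem (hG : ∀ s : Matrix.SpecialLinearGroup (Fin 2) F, s.toPGL ∈ G) (t : Fˣ) :
    aff (t * t) (0 : F) ∈ G := by
  have h := sq_mem_two hG (aff t (0 : F))
  rwa [pow_two, aff_mul_aff, show (t : F) * 0 + 0 = 0 by ring] at h

theorem aff_one_mem (hG : ∀ s : Matrix.SpecialLinearGroup (Fin 2) F, s.toPGL ∈ G) (b : F) :
    aff (1 : Fˣ) b ∈ G := by
  rw [aff, mob]
  apply mem_of_det_one hG
  simp [Matrix.det_fin_two]

theorem stabilizer_ne_top (p : ℕ) [Fact p.Prime] [CharP F p]
    (hG : ∀ s : Matrix.SpecialLinearGroup (Fin 2) F, s.toPGL ∈ G) (P : Pt F) :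
    stabilizer G P ≠ ⊤ := by
  intro htop
  obtain ⟨Q, hQ⟩ : ∃ Q : Pt F, Q ≠ P := by
    by_cases h : P = pinf
    · exact ⟨pt 0, h ▸ pt_ne_pinf 0⟩
    · exact ⟨pinf, Ne.symm h⟩
  obtain ⟨x, -, -, -, hx⟩ := exists_unipotent p hG Q
  exact hQ (hx P (mem_stabilizer_iff.1 (htop ▸ Subgroup.mem_top x))).symm

/-- For `g` without fixed points, the elements `a + b g` commute with `g`, with each other, and
are transitive on the line. -/
theorem exists_comm_transitive (g : PGL2 F) (hg : ∀ P : Pt F, g • P ≠ P) :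
    ∃ c : Pt F → PGL2 F, (∀ P, c P • pinf = P) ∧ (∀ P, Commute (c P) g) ∧
      ∀ P Q, Commute (c P) (c Q) := by
  induction g using ProjGenLinGroup.induction_on with | mk M => ?_
  set A : Matrix (Fin 2) (Fin 2) F := (M : Matrix (Fin 2) (Fin 2) F) with hA
  have hfree : ∀ v : Fin 2 → F, v ≠ 0 → ∀ c : F, A *ᵥ v ≠ c • v := by
    intro v hv c h
    apply hg (Projectivization.mk F v hv)
    rw [Projectivization.PGL.mk_smul_mk, Projectivization.mk_eq_mk_iff']
    exact ⟨c, h.symm⟩
  have hgam : A 1 0 ≠ 0 := by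
    intro h0
    refine hfree ![1, 0] (by simp) (A 0 0) ?_
    ext i; fin_cases i <;> simp [Matrix.mulVec, dotProduct, Fin.sum_univ_two, h0]
  have hU : ∀ P : Pt F, ∃ (a b : F) (U : GL (Fin 2) F),
      (U : Matrix (Fin 2) (Fin 2) F) = a • 1 + b • A ∧ ProjGenLinGroup.mk U • pinf = P := by
    intro P
    induction P using Projectivization.ind with | _ v hv => ?_
    set b := v 1 / A 1 0 with hb
    set a := v 0 - b * A 0 0 with ha
    have hab : (a • (1 : Matrix (Fin 2) (Fin 2) F) + b • A) *ᵥ ![1, 0] = v := by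
      ext i
      fin_cases i
      · simp [Matrix.mulVec, dotProduct, Fin.sum_univ_two, ha]
      · simp [Matrix.mulVec, dotProduct, Fin.sum_univ_two, hb, div_mul_cancel₀ _ hgam]
    have hdet : (a • (1 : Matrix (Fin 2) (Fin 2) F) + b • A).det ≠ 0 := by
      intro hd
      obtain ⟨w, hw, hw0⟩ := Matrix.exists_mulVec_eq_zero_iff.2 hd
      rw [Matrix.add_mulVec, Matrix.smul_mulVec, Matrix.smul_mulVec, Matrix.one_mulVec] at hw0
      by_cases hb0 : b = 0
      · rw [hb0, zero_smul, add_zero, smul_eq_zero] at hw0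
        have ha0 : a = 0 := hw0.resolve_right hw
        apply hv
        rw [← hab, ha0, hb0]
        simp
      · refine hfree w hw (-a / b) ?_
        have h2 : b • (A *ᵥ w) = (-a) • w := by
          rw [neg_smul]; exact eq_neg_of_add_eq_zero_right hw0
        rw [div_eq_inv_mul, mul_smul, ← h2, smul_smul, inv_mul_cancel₀ hb0, one_smul]
    refine ⟨a, b, GeneralLinearGroup.mkOfDetNeZero _ hdet, rfl, ?_⟩
    rw [pinf, Projectivization.PGL.mk_smul_mk, Projectivization.mk_eq_mk_iff']
    exact ⟨1, by rw [one_smul]; exact hab.symm⟩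
  choose a b U hU hUP using hU
  have key : ∀ (X Y : GL (Fin 2) F), Commute (X : Matrix (Fin 2) (Fin 2) F) Y →
      Commute (ProjGenLinGroup.mk X) (ProjGenLinGroup.mk Y) := fun X Y h =>
    Commute.map (show Commute X Y from Units.ext h.eq) ProjGenLinGroup.mk
  refine ⟨fun P => ProjGenLinGroup.mk (U P), hUP, fun P => key _ _ ?_, fun P Q => key _ _ ?_⟩
  · rw [hU]
    exact ((Commute.one_left _).smul_left _).add_left ((Commute.refl A).smul_left _)
  · rw [hU, hU]
    refine Commute.add_left (Commute.add_right ?_ ?_) (Commute.add_right ?_ ?_)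
    · exact ((Commute.one_left _).smul_left _).smul_right _
    · exact ((Commute.one_left _).smul_left _).smul_right _
    · exact ((Commute.one_right _).smul_left _).smul_right _
    · exact ((Commute.refl A).smul_left _).smul_right _

theorem free_of_orderOf [Finite F] {r : ℕ} [hr : Fact r.Prime] (hr2 : r ≠ 2)
    (hrq : r ∣ Nat.card F + 1) {h : PGL2 F} (hh : orderOf h = r) (P : Pt F) : h • P ≠ P := by
  intro hP
  haveI : Finite (PGL2 F) := finite_pgl2
  have hz : IsPGroup r (Subgroup.zpowers h) :=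
    IsPGroup.of_card (n := 1) (by rw [Nat.card_zpowers, hh, pow_one])
  have hsub : fixedPoints (Subgroup.zpowers h) (Pt F) = fixedBy (Pt F) h := by
    ext R
    simp only [mem_fixedPoints, mem_fixedBy, Subtype.forall, Subgroup.mem_zpowers_iff]
    constructor
    · intro hR; exact hR h ⟨1, zpow_one h⟩
    · rintro hR x ⟨i, rfl⟩; exact (stabilizer (PGL2 F) R).zpow_mem hR i
  have hmod : (Nat.card F + 1) % r = (fixedBy (Pt F) h).ncard % r := by
    have h2 := hz.card_modEq_card_fixedPoints (α := Pt F)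
    rwa [hsub, card_pt, Nat.card_coe_set_eq] at h2
  rw [Nat.dvd_iff_mod_eq_zero.1 hrq, eq_comm, ← Nat.dvd_iff_mod_eq_zero] at hmod
  have hpos : 0 < (fixedBy (Pt F) h).ncard := (Set.ncard_pos (Set.toFinite _)).2 ⟨P, hP⟩
  have h3 : 3 ≤ (fixedBy (Pt F) h).ncard := by
    have := Nat.le_of_dvd hpos hmod
    have := hr.out.two_le
    omega
  obtain ⟨A, hA, B, hB, C, hC, hAB, hAC, hBC⟩ := (Set.two_lt_ncard (Set.toFinite _)).1 h3
  have h1 : h = 1 := eq_one_of_fix_three hAB hAC hBC hA hB hC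
  rw [h1, orderOf_one] at hh
  exact hr.out.ne_one hh.symm

/-- Elements commuting with an element of odd prime order `r ∣ q + 1` commute with each other. -/
theorem commute_of_commute_order [Finite F] {r : ℕ} [hr : Fact r.Prime] (hr2 : r ≠ 2)
    (hrq : r ∣ Nat.card F + 1) {z u v : PGL2 F} (hz : orderOf z = r) (hu : Commute u z)
    (hv : Commute v z) : Commute u v := by
  obtain ⟨c, hc, hcz, hcc⟩ := exists_comm_transitive z (free_of_orderOf hr2 hrq hz)
  have hz2 : ∀ P : Pt F, z • z • P ≠ P := by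
    intro P hP
    rw [← mul_smul, ← pow_two] at hP
    refine free_of_orderOf hr2 hrq (h := z ^ 2) ?_ P hP
    rw [← hz]
    apply Nat.Coprime.orderOf_pow
    rw [hz]
    exact (Nat.coprime_primes hr.out Nat.prime_two).2 hr2
  have key : ∀ w : PGL2 F, Commute w z → w = c (w • pinf) := by
    intro w hw
    have hcom : ∀ R : Pt F, w • R = c (w • pinf) • R → w • z • R = c (w • pinf) • z • R := by
      intro R hR
      rw [← mul_smul, hw.eq, mul_smul, hR, ← mul_smul, ← (hcz _).eq, mul_smul]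
    have h0 : w • pinf = c (w • pinf) • pinf := (hc _).symm
    refine eq_of_agree_three (P := pinf) (Q := z • pinf) (R := z • z • pinf) ?_ ?_ ?_ h0
      (hcom _ h0) (hcom _ (hcom _ h0))
    · exact (free_of_orderOf hr2 hrq hz _).symm
    · exact (hz2 _).symm
    · exact (free_of_orderOf hr2 hrq hz _).symm
  rw [key u hu, key v hv]
  exact hcc _ _

end Cfsg.Agent.NilCoverPGL
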