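import Cfsg.Agent.EqLemmas
import Cfsg.Agent.Lib.Cover.Nilpotent
import Cfsg.Agent.Lib.NilCoverPGL.TwoBasic

/-!
# No nilpotent minimal cover for groups between `PSL_2(q)` and `PGL_2(q)`, `q ≥ 4`
-/

set_option autoImplicit false
open Matrix MulAction
open scoped LinearAlgebra.Projectivization MatrixGroups

namespace Cfsg.Agent.NilCoverPGL

open Cfsg.Agent.PSL2

variable {F : Type*} [Field F] [Finite F] {G : Subgroup (PGL2 F)}

theorem smul_pair {g : PGL2 F} {h : PGL2 F} (hc : Commute g h)
    (hh : ∀ R : Pt F, h • R = R ↔ R = pinf ∨ R = pt 0) {R : Pt F} (hR : R = pinf ∨ R = pt 0) :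
    g • R = pinf ∨ g • R = pt 0 := by
  apply (hh _).1
  rw [← mul_smul, ← hc.eq, mul_smul, (hh R).2 hR]

theorem aff_zero_fix {t : Fˣ} (ht : t ≠ 1) (R : Pt F) :
    aff t (0 : F) • R = R ↔ R = pinf ∨ R = pt 0 := by
  rcases pt_cases R with rfl | ⟨u, rfl⟩
  · simp
  · simp only [aff_smul_pt, pt_inj, pt_ne_pinf, false_or, add_zero]
    constructor
    · intro h
      by_contra hu
      exact ht (Units.ext (mul_right_cancel₀ hu (by rw [h, Units.val_one, one_mul])))
    · rintro rfl; simp

/-- Translations do not commute with nontrivial dilations. -/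
theorem not_commute_trans {t : Fˣ} (ht : t ≠ 1) :
    ¬ Commute (aff (1 : Fˣ) (1 : F)) (aff t 0) := by
  intro h
  have h2 := congrArg (fun g : PGL2 F => g • pt (0 : F)) h.eq
  simp [mul_smul] at h2
  exact ht (Units.ext h2.symm)

/-- The case of an odd prime `r ∣ q - 1`. -/
theorem false_of_split (p : ℕ) [hp : Fact p.Prime] [CharP F p]
    (hG : ∀ s : Matrix.SpecialLinearGroup (Fin 2) F, s.toPGL ∈ G)
    (𝓐 : Finset (Subgroup G)) (hcov : (∀ A ∈ 𝓐, A ≠ ⊤) ∧ (∀ g : G, ∃ A ∈ 𝓐, g ∈ A))
    (hmin : ∀ 𝓑 : Finset (Subgroup G), (∀ A ∈ 𝓑, A ≠ ⊤) ∧ (∀ g : G, ∃ A ∈ 𝓑, g ∈ A) → 𝓐.card ≤ 𝓑.card)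
    (hnil : ∀ A ∈ 𝓐, Group.IsNilpotent A)
    {r : ℕ} [hr : Fact r.Prime] (hr2 : r ≠ 2) (hrq : r ∣ Nat.card F - 1) : False := by
  haveI : Finite (PGL2 F) := finite_pgl2
  obtain ⟨t, ht⟩ := exists_prime_orderOf_dvd_card' (G := Fˣ) r (by rw [Nat.card_units]; exact hrq)
  have ht2 : t * t ≠ 1 := by
    intro h
    rw [← pow_two] at h
    have h2 := orderOf_dvd_of_pow_eq_one h
    rw [ht] at h2
    exact hr2 ((Nat.prime_dvd_prime_iff_eq hr.out Nat.prime_two).1 h2)
  have ht4 : t * t * (t * t) ≠ 1 := by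
    intro h
    have h2 := orderOf_dvd_of_pow_eq_one (show t ^ 4 = 1 by rw [← h]; simp [pow_succ, mul_assoc])
    rw [ht, show (4 : ℕ) = 2 ^ 2 from rfl] at h2
    exact hr2 ((Nat.prime_dvd_prime_iff_eq hr.out Nat.prime_two).1 (hr.out.dvd_of_dvd_pow h2))
  let x : G := ⟨aff 1 1, aff_one_mem hG 1⟩
  let y : G := ⟨aff (t * t) 0, aff_sq_mem hG t⟩
  have hyr : y ^ r ^ 1 = 1 := by
    apply Subtype.ext
    show (aff (t * t) (0 : F)) ^ r ^ 1 = 1
    rw [pow_one]
    have hpow : ∀ n : ℕ, (aff (t * t) (0 : F)) ^ n = aff ((t * t) ^ n) 0 := by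
      intro n
      induction n with
      | zero => simp [aff_one_zero]
      | succ n ih => rw [pow_succ, ih, aff_mul_aff, pow_succ]; simp
    rw [hpow, mul_pow, ← ht, pow_orderOf_eq_one, mul_one, aff_one_zero]
  have hxp : x ^ p ^ 1 = 1 := by
    apply Subtype.ext
    show (aff (1 : Fˣ) (1 : F)) ^ p ^ 1 = 1
    rw [pow_one, aff_one_pow, CharP.cast_eq_zero, zero_mul, aff_one_zero]
  have hyfix : ∀ R : Pt F, y • R = R ↔ R = pinf ∨ R = pt 0 := fun R => aff_zero_fix ht2 R
  have hcardp : ¬ p ∣ Nat.card (Pt F) := not_dvd_card_proj F 2 p (by norm_num)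
  have hxfix : ∀ R : Pt F, x • R = R → R = pinf := by
    intro R hR
    have hR' : aff (1 : Fˣ) (1 : F) • R = R := hR
    rcases pt_cases R with rfl | ⟨u, rfl⟩
    · rfl
    · simp at hR'
  obtain ⟨A, hA, hxA⟩ := hcov.2 x
  obtain ⟨B, hB, hyB⟩ := hcov.2 y
  have hAH := le_stabilizer_of_unique_fix A (hnil A hA) p hxA ⟨1, hxp⟩ hxfix hcardp
  have hcop : (orderOf x).Coprime (orderOf y) := by
    have hpr : p ≠ r := by
      rintro rfl
      have : Fintype F := Fintype.ofFinite F
      obtain ⟨f, -, hf⟩ := FiniteField.card F p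
      rw [Nat.card_eq_fintype_card, hf] at hrq
      have h1 : p ∣ p ^ (f : ℕ) := dvd_pow_self p f.ne_zero
      have h2 := Nat.dvd_sub h1 hrq
      rw [Nat.sub_sub_self (Nat.one_le_pow _ _ hp.out.pos)] at h2
      exact hp.out.ne_one (Nat.dvd_one.1 h2)
    exact Nat.Coprime.coprime_dvd_left (orderOf_dvd_of_pow_eq_one hxp)
      (Nat.Coprime.coprime_dvd_right (orderOf_dvd_of_pow_eq_one hyr)
        (by simpa using (Nat.coprime_primes hp.out hr.out).2 hpr))
  -- members containing `y` fix both ends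
  have hBH : B ≤ stabilizer G (pinf : Pt F) := by
    obtain ⟨R, hRn, hRp, hRy⟩ := exists_normal_pgroup (hnil B hB) r
    have hyR : (⟨y, hyB⟩ : B) ∈ R := hRy _ ⟨1, Subtype.ext hyr⟩
    have hsub : fixedPoints R (Pt F) ⊆ {pinf, pt 0} := by
      intro Z hZ
      simpa using (hyfix Z).1 (hZ ⟨_, hyR⟩)
    have hmod := hRp.card_modEq_card_fixedPoints (α := Pt F)
    rw [card_pt, Nat.card_coe_set_eq] at hmod
    have hr3 : 3 ≤ r := by have := hr.out.two_le; omega
    have h2 : (Nat.card F + 1) % r = 2 := by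
      obtain ⟨e, he⟩ := hrq
      have hF : Nat.card F + 1 = 2 + r * e := by
        have := Finite.one_lt_card (α := F); omega
      rw [hF, Nat.add_mul_mod_self_left, Nat.mod_eq_of_lt (by omega)]
    have hle : (fixedPoints R (Pt F)).ncard ≤ 2 :=
      (Set.ncard_le_ncard hsub (Set.toFinite _)).trans
        ((Set.ncard_insert_le _ _).trans (by rw [Set.ncard_singleton]))
    have heq : (fixedPoints R (Pt F)).ncard = 2 := by
      have h3 : (fixedPoints R (Pt F)).ncard % r = 2 :=
        (show (Nat.card F + 1) % r = (fixedPoints R (Pt F)).ncard % r from hmod).symm.trans h2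
      rw [Nat.mod_eq_of_lt (by omega)] at h3
      exact h3
    have hset : fixedPoints R (Pt F) = {pinf, pt 0} :=
      Set.eq_of_subset_of_ncard_le hsub (by rw [heq, Set.ncard_pair (pinf_ne_pt 0)])
    intro a ha
    have hmove : ∀ Z ∈ fixedPoints R (Pt F), a • Z ∈ fixedPoints R (Pt F) := by
      rintro Z hZ ⟨u, hu⟩
      have hmem := hRn.conj_mem u hu (⟨a, ha⟩ : B)⁻¹
      have h : (a⁻¹ * (u : G) * a⁻¹⁻¹) • Z = Z := hZ ⟨_, hmem⟩
      rw [inv_inv, mul_smul, mul_smul, inv_smul_eq_iff] at h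
      exact h
    rw [mem_stabilizer_iff]
    have hinf : a • (pinf : Pt F) = pinf ∨ a • (pinf : Pt F) = pt 0 := by
      simpa [hset] using hmove pinf (by simp [hset])
    refine hinf.resolve_right fun h0 => ?_
    -- otherwise `a` is an involution inverting `y`
    have hzero : a • pt (0 : F) = pinf := by
      have h : a • pt (0 : F) = pinf ∨ a • pt (0 : F) = pt 0 := by
        simpa [hset] using hmove (pt 0) (by simp [hset])
      exact h.resolve_right fun h' => pinf_ne_pt (0 : F) (MulAction.injective a (h0.trans h'.symm))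
    obtain ⟨α, β, γ, δ, hd, hmob⟩ := exists_mob (a : PGL2 F)
    have h0' : (a : PGL2 F) • (pinf : Pt F) = pt 0 := h0
    have hzero' : (a : PGL2 F) • pt (0 : F) = pinf := hzero
    rw [hmob, mob_smul_pinf_eq_pt, zero_mul] at h0'
    rw [hmob, mob_smul_pt_eq_pinf, mul_zero, zero_add] at hzero'
    subst h0' hzero'
    have hinv : a ^ 2 = 1 := by
      apply Subtype.ext
      show (a : PGL2 F) ^ 2 = 1
      rw [hmob, pow_two, mob_mul_mob, mob_eq_one_iff]
      refine ⟨by ring, by ring, by ring⟩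
    have hca : Commute a y := by
      refine commute_of_coprime_mem B (hnil B hB) ha hyB ?_
      exact Nat.Coprime.coprime_dvd_left (orderOf_dvd_of_pow_eq_one hinv)
        (Nat.Coprime.coprime_dvd_right (orderOf_dvd_of_pow_eq_one hyr)
          (by simpa using (Nat.coprime_primes Nat.prime_two hr.out).2 (Ne.symm hr2)))
    have hca' : Commute (a : PGL2 F) (aff (t * t) (0 : F)) := hca.map G.subtype
    rw [hmob, Commute, SemiconjBy, aff, mob_mul_mob, mob_mul_mob, mob_eq_mob_iff] at hca'
    obtain ⟨u, -, h2, h3, -⟩ := hca'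
    simp at h2 h3
    have hb : β ≠ 0 := by rintro rfl; simp at hd
    have hg : γ ≠ 0 := by rintro rfl; simp at hd
    apply ht4
    apply Units.ext
    have e2 : (t : F) * t = u := by
      apply mul_left_cancel₀ hb
      linear_combination h2
    have e3 : (1 : F) = t * t * u := by
      apply mul_left_cancel₀ hg
      linear_combination h3
    simp only [Units.val_mul, Units.val_one]
    linear_combination -e3 + (t : F) * t * e2
  obtain rfl := NilCover.eq_of_le_proper 𝓐 hcov hmin (stabilizer_ne_top p hG pinf) hA hB hAH hBH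
  exact not_commute_trans ht2
    ((commute_of_coprime_mem A (hnil A hA) hxA hyB hcop).map G.subtype)

/-- The case `q - 1` a power of two. -/
theorem false_of_two_power (p : ℕ) [hp : Fact p.Prime] [CharP F p]
    (hG : ∀ s : Matrix.SpecialLinearGroup (Fin 2) F, s.toPGL ∈ G)
    (𝓐 : Finset (Subgroup G)) (hcov : (∀ A ∈ 𝓐, A ≠ ⊤) ∧ (∀ g : G, ∃ A ∈ 𝓐, g ∈ A))
    (hmin : ∀ 𝓑 : Finset (Subgroup G), (∀ A ∈ 𝓑, A ≠ ⊤) ∧ (∀ g : G, ∃ A ∈ 𝓑, g ∈ A) → 𝓐.card ≤ 𝓑.card)
    (hnil : ∀ A ∈ 𝓐, Group.IsNilpotent A)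
    {a : ℕ} (ha : Nat.card F - 1 = 2 ^ a) (hp2 : p ≠ 2) (hq : 4 ≤ Nat.card F)
    {r : ℕ} [hr : Fact r.Prime] (hr2 : r ≠ 2) (hrq : r ∣ Nat.card F + 1) : False := by
  classical
  haveI : Finite (PGL2 F) := finite_pgl2
  haveI : Fintype (Pt F) := Fintype.ofFinite _
  -- a split torus element of two-power order
  obtain ⟨t, ht⟩ : ∃ t : Fˣ, t * t ≠ 1 := by
    by_contra hall
    push Not at hall
    haveI : Fintype F := Fintype.ofFinite F
    obtain ⟨g, hg⟩ := IsCyclic.exists_generator (α := Fˣ)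
    have h1 := orderOf_eq_card_of_forall_mem_zpowers hg
    have h2 : orderOf g ∣ 2 := orderOf_dvd_of_pow_eq_one (by rw [pow_two]; exact hall g)
    rw [h1, Nat.card_units] at h2
    have := Nat.le_of_dvd two_pos h2
    omega
  let s : G := ⟨aff (t * t) 0, aff_sq_mem hG t⟩
  have hs : s ^ 2 ^ a = 1 := by
    have hpow : ∀ n : ℕ, (aff (t * t) (0 : F)) ^ n = aff ((t * t) ^ n) 0 := by
      intro n
      induction n with
      | zero => simp [aff_one_zero]
      | succ n ih => rw [pow_succ, ih, aff_mul_aff, pow_succ]; simp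
    apply Subtype.ext
    show (aff (t * t) (0 : F)) ^ 2 ^ a = 1
    rw [hpow, ← ha, ← Nat.card_units, pow_card_eq_one', aff_one_zero]
  have hsfix : ∀ R : Pt F, s • R = R ↔ R = pinf ∨ R = pt 0 := fun R => aff_zero_fix ht R
  -- unipotent elements, one for each point
  choose x hxp hx1 hxP hxu using fun P : Pt F => exists_unipotent p hG P
  choose M hM hxM using fun P : Pt F => hcov.2 (x P)
  have hcardp : ¬ p ∣ Nat.card (Pt F) := not_dvd_card_proj F 2 p (by norm_num)
  have hMfix : ∀ P, M P ≤ stabilizer G P := fun P =>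
    le_stabilizer_of_unique_fix (M P) (hnil _ (hM P)) p (hxM P) ⟨1, by rw [pow_one]; exact hxp P⟩
      (hxu P) hcardp
  have hMinj : Function.Injective M := fun P Q h =>
    hxu Q P (mem_stabilizer_iff.1 (hMfix P (h ▸ hxM Q)))
  obtain ⟨S, hS, hsS⟩ := hcov.2 s
  have hSM : ∀ P, M P ≠ S := by
    intro P h
    have hc : Commute s (x P) := by
      refine commute_of_coprime_mem (M P) (hnil _ (hM P)) (h ▸ hsS) (hxM P) ?_
      exact Nat.Coprime.coprime_dvd_left (orderOf_dvd_of_pow_eq_one hs)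
        (Nat.Coprime.coprime_dvd_right (orderOf_dvd_of_pow_eq_one (hxp P))
          (Nat.Coprime.pow_left _ ((Nat.coprime_primes Nat.prime_two hp.out).2 (Ne.symm hp2))))
    -- `x P` permutes the two fixed points of `s`, hence fixes both
    have hsq : ∀ R : Pt F, (R = pinf ∨ R = pt 0) → (x P) • (x P) • R = R := by
      intro R hR
      have h1 : (x P) • R = pinf ∨ (x P) • R = pt 0 :=
        smul_pair (hc.symm.map G.subtype) (fun Z => aff_zero_fix ht Z) hR
      have h2 : (x P) • (x P) • R = pinf ∨ (x P) • (x P) • R = pt 0 :=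
        smul_pair (hc.symm.map G.subtype) (fun Z => aff_zero_fix ht Z) h1
      by_contra hne
      have hinj := MulAction.injective (α := G) (β := Pt F) (x P)
      rcases hR with rfl | rfl <;> rcases h1 with h1 | h1 <;> rcases h2 with h2 | h2 <;>
        first
          | exact hne h2
          | exact hne (by rw [h1, h1])
          | exact pinf_ne_pt (0 : F) ((hinj (h1.trans h2.symm)).trans h1)
          | exact pinf_ne_pt (0 : F) ((hinj (h1.trans h2.symm)).trans h1).symm
    have hfix : ∀ R : Pt F, (R = pinf ∨ R = pt 0) → (x P) • R = R := by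
      intro R hR
      obtain ⟨j, hj⟩ := hp.out.odd_of_ne_two hp2
      have h := hxp P
      rw [hj, pow_succ, pow_mul] at h
      have hpow : ∀ i : ℕ, (((x P) ^ 2) ^ i) • R = R := by
        intro i
        induction i with
        | zero => simp
        | succ i ih => rw [pow_succ', mul_smul, ih, pow_two, mul_smul, hsq R hR]
      have h' := congrArg (· • R) h
      simp only [mul_smul, one_smul] at h'
      have h3 : ((x P) ^ 2) ^ j • (x P) • R = (x P) • ((x P) ^ 2) ^ j • R := by
        rw [← mul_smul, ← mul_smul, ((Commute.refl (x P)).pow_left 2).pow_left j]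
      rw [h3, hpow] at h'
      exact h'
    have e1 := hxu P pinf (hfix _ (Or.inl rfl))
    have e2 := hxu P (pt 0) (hfix _ (Or.inr rfl))
    exact pinf_ne_pt (0 : F) (e1.trans e2.symm)
  -- members with an element of order `r`
  set 𝓕 := 𝓐.filter fun A => ∃ f ∈ A, orderOf f = r with h𝓕
  have hfree : ∀ f : G, orderOf f = r → ∀ P : Pt F, f • P ≠ P := fun f hf P =>
    free_of_orderOf hr2 hrq (h := (f : PGL2 F)) (by rwa [Subgroup.orderOf_coe]) P
  have hcount : Nat.card F + 2 + 𝓕.card ≤ 𝓐.card := by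
    have hdisj : Disjoint (insert S (Finset.univ.image M)) 𝓕 := by
      rw [Finset.disjoint_left]
      intro A hA hAF
      obtain ⟨-, f, hfA, hf⟩ := Finset.mem_filter.1 hAF
      rcases Finset.mem_insert.1 hA with rfl | hA
      · have hc : Commute f s := by
          refine commute_of_coprime_mem _ (hnil _ hS) hfA hsS ?_
          rw [hf]
          exact Nat.Coprime.coprime_dvd_right (orderOf_dvd_of_pow_eq_one hs)
            (Nat.Coprime.pow_right _ ((Nat.coprime_primes hr.out Nat.prime_two).2 hr2))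
        have hf2 : orderOf (f ^ 2) = r := by
          rw [← hf]
          apply Nat.Coprime.orderOf_pow
          rw [hf]
          exact (Nat.coprime_primes hr.out Nat.prime_two).2 hr2
        have h1 : f • (pinf : Pt F) = pt 0 :=
          (smul_pair (hc.map G.subtype) (fun Z => aff_zero_fix ht Z) (Or.inl rfl)).resolve_left
            (hfree f hf _)
        have h2 : f • (pt 0 : Pt F) = pinf :=
          (smul_pair (hc.map G.subtype) (fun Z => aff_zero_fix ht Z) (Or.inr rfl)).resolve_right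
            (hfree f hf _)
        exact hfree (f ^ 2) hf2 pinf (by rw [pow_two, mul_smul, h1, h2])
      · obtain ⟨P, -, rfl⟩ := Finset.mem_image.1 hA
        exact hfree f hf P (hMfix P hfA)
    have hsub : insert S (Finset.univ.image M) ∪ 𝓕 ⊆ 𝓐 := by
      apply Finset.union_subset
      · intro A hA
        rcases Finset.mem_insert.1 hA with rfl | hA
        · exact hS
        · obtain ⟨P, -, rfl⟩ := Finset.mem_image.1 hA; exact hM P
      · exact Finset.filter_subset _ _
    have hnot : S ∉ Finset.univ.image M := by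
      intro h
      obtain ⟨P, -, hP⟩ := Finset.mem_image.1 h
      exact hSM P hP
    have h := Finset.card_le_card hsub
    rw [Finset.card_union_of_disjoint hdisj, Finset.card_insert_of_notMem hnot,
      Finset.card_image_of_injective _ hMinj, Finset.card_univ, ← Nat.card_eq_fintype_card, card_pt] at h
    omega
  -- the competing cover
  have hK : ∀ A ∈ 𝓕, ∃ f : G, f ∈ A ∧ orderOf f = r := fun A hA => (Finset.mem_filter.1 hA).2
  choose! fA hfA hfr using hK
  let 𝓑 : Finset (Subgroup G) :=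
    Finset.univ.image (fun P : Pt F => stabilizer G P) ∪
      𝓕.image (fun A => Subgroup.centralizer {fA A})
  have hB : (∀ A ∈ 𝓑, A ≠ ⊤) ∧ ∀ g : G, ∃ A ∈ 𝓑, g ∈ A := by
    refine ⟨fun K hK => ?_, fun g => ?_⟩
    · rcases Finset.mem_union.1 hK with hK | hK
      · obtain ⟨P, -, rfl⟩ := Finset.mem_image.1 hK
        exact stabilizer_ne_top p hG P
      · obtain ⟨A, hA, rfl⟩ := Finset.mem_image.1 hK
        intro htop
        have hmem : x pinf ∈ Subgroup.centralizer ({fA A} : Set G) := htop ▸ Subgroup.mem_top _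
        rw [Subgroup.mem_centralizer_singleton_iff] at hmem
        apply hfree (fA A) (hfr A hA) pinf
        apply hxu pinf
        rw [← mul_smul, hmem, mul_smul, hxP]
    by_cases hg : ∃ P : Pt F, g • P = P
    · obtain ⟨P, hP⟩ := hg
      exact ⟨_, Finset.mem_union_left _ (Finset.mem_image.2 ⟨P, Finset.mem_univ _, rfl⟩), hP⟩
    push Not at hg
    obtain ⟨c, hc, hcg, -⟩ := exists_comm_transitive (g : PGL2 F) hg
    let C : Subgroup (PGL2 F) := Subgroup.centralizer {(g : PGL2 F)}
    have hcC : ∀ P, c P ∈ C := fun P => Subgroup.mem_centralizer_singleton_iff.2 (hcg P).eq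
    have horb : orbit C (pinf : Pt F) = Set.univ :=
      Set.eq_univ_of_forall fun P => ⟨⟨c P, hcC P⟩, hc P⟩
    have hdvd : r ∣ Nat.card C := by
      have h := MulAction.index_stabilizer C (pinf : Pt F)
      rw [horb, Set.ncard_univ, card_pt] at h
      exact (hrq.trans (dvd_of_eq h.symm)).trans (Subgroup.index_dvd_card _)
    obtain ⟨h0, hh0⟩ := exists_prime_orderOf_dvd_card' r hdvd
    have hh : orderOf (h0 : PGL2 F) = r := by rw [Subgroup.orderOf_coe, hh0]
    have hmemG : (h0 : PGL2 F) ∈ G := by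
      obtain ⟨j, hj⟩ := hr.out.odd_of_ne_two hr2
      have h1 : ((h0 : PGL2 F) ^ (j + 1)) ^ 2 = h0 := by
        rw [← pow_mul, show (j + 1) * 2 = orderOf (h0 : PGL2 F) + 1 by omega, pow_succ,
          pow_orderOf_eq_one, one_mul]
      exact h1 ▸ sq_mem_two hG _
    obtain ⟨A, hA, hhA⟩ := hcov.2 ⟨h0, hmemG⟩
    have hAF : A ∈ 𝓕 := Finset.mem_filter.2 ⟨hA, ⟨h0, hmemG⟩, hhA,
      by rw [← Subgroup.orderOf_coe]; exact hh⟩
    refine ⟨_, Finset.mem_union_right _ (Finset.mem_image.2 ⟨A, hAF, rfl⟩), ?_⟩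
    rw [Subgroup.mem_centralizer_singleton_iff]
    obtain ⟨z, hz, hz1, hz2⟩ := exists_common_commute A (hnil A hA) r (hfA A hAF) hhA (hfr A hAF)
      (by rw [← Subgroup.orderOf_coe]; exact hh)
    have hz' : orderOf (z : PGL2 F) = r := by rw [Subgroup.orderOf_coe, hz]
    have hfh : Commute (fA A : PGL2 F) (h0 : PGL2 F) :=
      commute_of_commute_order hr2 hrq hz' (hz1.symm.map G.subtype) (hz2.symm.map G.subtype)
    have hgh : Commute (g : PGL2 F) (h0 : PGL2 F) :=
      (show Commute (h0 : PGL2 F) (g : PGL2 F) from Subgroup.mem_centralizer_singleton_iff.1 h0.2).symm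
    exact Subtype.ext (commute_of_commute_order hr2 hrq hh hgh hfh).eq
  have hle := hmin 𝓑 hB
  have h1 : (Finset.univ.image (fun P : Pt F => stabilizer G P)).card ≤ Nat.card F + 1 := by
    refine Finset.card_image_le.trans ?_
    rw [Finset.card_univ, ← Nat.card_eq_fintype_card, card_pt]
  have h2 := Finset.card_union_le (Finset.univ.image (fun P : Pt F => stabilizer G P))
    (𝓕.image (fun A => Subgroup.centralizer ({fA A} : Set G)))
  have h3 : (𝓕.image (fun A => Subgroup.centralizer ({fA A} : Set G))).card ≤ 𝓕.card :=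
    Finset.card_image_le
  have h4 : 𝓑.card ≤ Nat.card F + 1 + 𝓕.card := h2.trans (by omega)
  omega

end Cfsg.Agent.NilCoverPGL
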